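import Cfsg.Agent.Lib.SzRecog.Main
import Cfsg.Agent.Lib.CNSimple.Final
import Cfsg.Agent.Lib.EPPO.Simple

/-!
# The lists of simple groups with the Suzuki groups named
-/

set_option autoImplicit false
set_option linter.style.haveILetI false
set_option linter.unusedSectionVars false

namespace Cfsg.Agent.SzRecog

open Cfsg.Agent.CNSimple

universe u v

/-- A Zassenhaus group of Suzuki order is a Suzuki group. -/
theorem isoSuzuki_of_order {G : Type u} [Group G] [Finite G] {Ω : Type v} [MulAction G Ω] [Fintype Ω]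
    (hZ : Cfsg.IsZassenhausGroup G Ω) (hs : Cfsg.IsSuzuki G) : Cfsg.Lie.IsoSuzuki G := by
  obtain ⟨hsimple, m, -, hcard⟩ := hs
  haveI := hsimple
  refine (classification hZ).resolve_left ?_
  rintro ⟨F, i1, i2, ⟨e⟩⟩
  exact EPPO.not_three_dvd_suzuki m (hcard ▸ Nat.card_congr e.toEquiv ▸ EPPO.three_dvd_psl F)

/-- A simple group with a good subgroup of even order, named. -/
theorem tiHyp_main {G : Type u} [Group G] [Finite G] [IsSimpleGroup G] {K : Subgroup G} (h : TIHyp K) :
    (∃ (F : Type) (_ : Field F) (_ : Fintype F) (n : ℕ), Fintype.card F = 2 ^ n ∧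
      Nonempty (G ≃* Matrix.ProjectiveSpecialLinearGroup (Fin 2) F)) ∨ Cfsg.Lie.IsoSuzuki G := by
  classical
  haveI := Fintype.ofFinite (G ⧸ h.N)
  exact h.main.imp id (isoSuzuki_of_order h.zassenhaus)

/-- The list for groups with a good subgroup of even order or `2`-groups as centralisers of involutions. -/
theorem simple_list {G : Type u} [Group G] [Finite G] [IsSimpleGroup G] (hna : ∃ a b : G, a * b ≠ b * a)
    (h : (∃ K : Subgroup G, TIHyp K) ∨ CIT G) :
    (∃ (F : Type) (_ : Field F) (_ : Fintype F),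
        (Fintype.card F = 9 ∨ (∃ n : ℕ, Fintype.card F = 2 ^ n) ∨
          ((Fintype.card F).Prime ∧ ∃ k : ℕ, Fintype.card F = 2 ^ k + 1 ∨ Fintype.card F + 1 = 2 ^ k)) ∧
        Nonempty (G ≃* Matrix.ProjectiveSpecialLinearGroup (Fin 2) F)) ∨
    (∃ (F : Type) (_ : Field F) (_ : Fintype F), Fintype.card F = 4 ∧
        Nonempty (G ≃* Matrix.ProjectiveSpecialLinearGroup (Fin 3) F)) ∨
    Cfsg.Lie.IsoSuzuki G := by
  rcases (h.elim Or.inl fun hc => cit_simple hna hc) with ⟨K, hK⟩ | ⟨F, i1, i2, hq, he⟩ | hL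
  · rcases tiHyp_main hK with ⟨F, i1, i2, n, hn, he⟩ | hs
    · exact Or.inl ⟨F, i1, i2, Or.inr (Or.inl ⟨n, hn⟩), he⟩
    · exact Or.inr (Or.inr hs)
  · exact Or.inl ⟨F, i1, i2, hq.imp id Or.inr, he⟩
  · exact Or.inr (Or.inl hL)

end Cfsg.Agent.SzRecog
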