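import Cfsg.Agent.Lib.SzRecog.Rels

/-!
# The twisting map and the structure function are determined
-/

set_option autoImplicit false
set_option linter.unusedSectionVars false

namespace Cfsg.Agent.SzRecog

open Cfsg.Agent.SzSmall

universe u v w v' w'

variable {K : Type u} [Field K] [Fintype K] [CharP K 2] {n : ℕ} {φ : K ≃+* K}
  {G : Type v} {Ω : Type w} [Group G] [MulAction G Ω] {F : Frame (φ : K →+* K) G Ω} {c : K}

theorem twist_sq (hK : OddDeg K n) (hb : IsBase F 0) (β : K) : φ (φ β) = β ^ 2 := by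
  rcases eq_or_ne β 0 with rfl | h0
  · simp
  rcases eq_or_ne β 1 with rfl | h1
  · simp
  obtain ⟨r, ρ, hr, hρ, hS, hl⟩ := step hK hb h0 h1
  have hq := quad_step (c := (0 : K)) (pr := φ r) (p := φ β) (pρ := φ ρ) hr hρ hS hl
  have h2 : (2 : K) = 0 := CharTwo.two_eq_zero
  have hr2 : r ^ 2 = β ^ 2 * φ β := by linear_combination hq - (β * r + β ^ 2 + β ^ 2 * φ β) * h2
  have hrφ : φ r = φ β * β := by simpa using hr
  have h := congrArg φ hr2
  rw [map_pow, hrφ, map_mul, map_pow] at h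
  refine mul_left_cancel₀ (pow_ne_zero 2 (by simpa using h0 : φ β ≠ 0)) ?_
  linear_combination -h

theorem c_cases (hK : OddDeg K n) (hne : φ ≠ RingEquiv.refl K) (hb : IsBase F c) : c = 0 ∨ c = 1 := by
  by_contra hc
  push Not at hc
  obtain ⟨hc0, hc1⟩ := hc
  have hsq : ∀ β : K, β ≠ 0 → β ≠ 1 →
      (c * β + (1 + c) * φ β) ^ 2 = φ β * β * ((c * β + (1 + c) * φ β) + (β + φ β)) := by
    intro β h0 h1
    obtain ⟨r, ρ, hr, hρ, hS, hl⟩ := step hK hb h0 h1
    have hq := quad_step (pr := φ r) (p := φ β) (pρ := φ ρ) hr hρ hS hl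
    have hl' : φ ρ * (1 + φ β) * φ (β + r) = φ β ^ 2 := by
      rw [← map_one_add, ← map_mul, ← map_mul, hl, map_pow]
    refine square_step (X := β + r) (pX := φ (β + r)) (pρ := φ ρ) (ρ := ρ) hc0 hc1 h0
      (by simpa using h0) (one_add_map_ne h1) rfl ?_ hρ hl hl' hq
    rw [map_add]
    linear_combination hr
  have hcube : ∀ β : K, β ≠ 0 → β ≠ 1 → (c * β + (1 + c) * φ β) ^ 3 = (φ β * β) ^ 2 := by
    intro β h0 h1
    have e1 := hsq β h0 h1
    have e2 := hsq β⁻¹ (inv_ne_zero h0) (by simpa using h1)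
    have hp : φ β ≠ 0 := by simpa using h0
    rw [map_inv₀] at e2
    field_simp at e2
    have h2 : (2 : K) = 0 := CharTwo.two_eq_zero
    have e3 : (c * β + (1 + c) * φ β + (β + φ β)) ^ 2 = c * β + (1 + c) * φ β := by
      grind
    refine mul_left_cancel₀ (L_ne hK hb h0 h1) ?_
    calc (c * β + (1 + c) * φ β) * (c * β + (1 + c) * φ β) ^ 3 = ((c * β + (1 + c) * φ β) ^ 2) ^ 2 := by ring
      _ = (φ β * β) ^ 2 * (c * β + (1 + c) * φ β + (β + φ β)) ^ 2 := by rw [e1, mul_pow]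
      _ = _ := by rw [e3, mul_comm]
  refine hne (RingEquiv.ext fun β => ?_)
  rcases eq_or_ne β 0 with rfl | h0
  · simp
  rcases eq_or_ne β 1 with rfl | h1
  · simp
  have h1' : β ^ 2 ≠ 1 := fun e => h1 (hK.sq_inj (by rw [← pow_two, e, mul_one]))
  have e := hK.cube_inj (a := c * β ^ 2 + (1 + c) * φ (β ^ 2)) (b := (c * β + (1 + c) * φ β) ^ 2) (by
    rw [hcube _ (pow_ne_zero 2 h0) h1', ← pow_mul, mul_comm 2 3, pow_mul, hcube β h0 h1, map_pow]
    ring)
  rw [map_pow] at e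
  have h2 : (2 : K) = 0 := CharTwo.two_eq_zero
  have e' : c * (1 + c) * (β ^ 2 + φ β ^ 2) = 0 := by grind
  have hcc : c * (1 + c) ≠ 0 := mul_ne_zero hc0 (one_add_ne hc1)
  have e'' := CharTwo.add_eq_zero.mp ((mul_eq_zero.mp e').resolve_left hcc)
  show φ β = β
  exact (hK.sq_inj (by rw [← pow_two, ← pow_two, e''])).symm

/-- Passing to the inverse twisting map turns `c = 1` into `c = 0`. -/
theorem isBase_mirror (hb : IsBase F 1) :
    IsBase (F.mirror (φ.symm : K →+* K) φ.apply_symm_apply φ.symm_apply_apply) 0 := by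
  show F.s * F.T _ * F.s = F.T _ * F.d 1 * F.s * F.T _
  simp only [Equiv.coe_fn_mk, RingEquiv.coe_toRingHom, map_zero, map_one, mul_zero, mul_one, add_zero, zero_add,
    CharTwo.add_self_eq_zero]
  simpa [IsBase, Frame.Rel, CharTwo.add_self_eq_zero] using hb

/-- Two groups with coordinates and the same base relation have the same structure function. -/
theorem common {G' : Type v'} {Ω' : Type w'} [Group G'] [MulAction G' Ω'] (hK : OddDeg K n)
    (F' : Frame (φ : K →+* K) G' Ω') (hb : IsBase F 0) (hb' : IsBase F' 0) {u : K × K} (hu : u ≠ 0) :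
    ∃ f, (∃ k g, F.Rel u f k g) ∧ ∃ k g, F'.Rel u f k g := by
  obtain ⟨x, y⟩ := u
  have scaled : ∀ (k : Kˣ) {u0 f0 : K × K}, (∃ h g, F.Rel u0 f0 h g) → (∃ h g, F'.Rel u0 f0 h g) →
      pact (φ : K →+* K) k u0 = (x, y) →
      ∃ f, (∃ k g, F.Rel (x, y) f k g) ∧ ∃ k g, F'.Rel (x, y) f k g := by
    rintro k u0 f0 ⟨h, g, r⟩ ⟨h', g', r'⟩ e
    refine ⟨pact (φ : K →+* K) k⁻¹ f0, ⟨_, _, e ▸ F.rel_scale r k⟩, ⟨_, _, e ▸ F'.rel_scale r' k⟩⟩
  by_cases hx : x = 0
  · subst hx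
    obtain ⟨k, hk⟩ := (hK.norm_bijective φ).2 y
    have hk0 : k ≠ 0 := fun e => hu (by simp [e] at hk; simp [← hk])
    exact scaled (Units.mk0 k hk0) ⟨_, _, hb⟩ ⟨_, _, hb'⟩ (by simpa [pact] using hk)
  · have hp : φ x * x ≠ 0 := mul_ne_zero (by simpa using hx) hx
    obtain ⟨r, hr⟩ : ∃ r, φ r = y / (φ x * x) := φ.surjective _
    have hu' : pact (φ : K →+* K) (Units.mk0 x hx) (1, φ r) = (x, y) := by
      simp [pact, hr, mul_div_cancel₀ _ hp]
    rcases eq_or_ne r 0 with rfl | h0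
    · exact scaled _ ⟨_, _, rel_v hb⟩ ⟨_, _, rel_v hb'⟩ (by simpa using hu')
    rcases eq_or_ne r 1 with rfl | h1
    · exact scaled _ ⟨_, _, by simpa using rel_v' hb⟩ ⟨_, _, by simpa using rel_v' hb'⟩
        (by simpa using hu')
    obtain ⟨r3, f, hf⟩ : ∃ (r3 : K) (f : K × K), (∃ h g, F.Rel (1, φ r) f h g) ∧ ∃ h g, F'.Rel (1, φ r) f h g := by
      obtain ⟨r3, f, g, h, -, e, rr, -, -, -, ef⟩ := rel_w hK hb h0 h1
      obtain ⟨r3', f', g', h', -, e', rr', -, -, -, ef'⟩ := rel_w hK hb' h0 h1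
      have h3 : r3' = r3 := hK.norm_inj φ (mul_right_cancel₀ (sum_ne hK) (e'.trans e.symm))
      rw [h3, ← ef] at ef'
      subst ef'
      refine ⟨r3, f', ⟨h, g, ?_⟩, ⟨h', g', ?_⟩⟩
      · simpa using rr
      · simpa using rr'
    exact scaled _ hf.1 hf.2 hu'

end Cfsg.Agent.SzRecog
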