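import Cfsg.Agent.Lib.SzRecog.Base
import Cfsg.Agent.Lib.SzRecog.Unique
import Cfsg.Agent.Lib.SzSmall.Model
import Cfsg.Agent.Lib.ZassSuz.Main
import Cfsg.Prelude.Def_Sz

/-!
# Simple Zassenhaus groups with nonabelian kernel are the Suzuki groups
-/

set_option autoImplicit false
set_option linter.unusedSectionVars false
set_option linter.style.haveILetI false

namespace Cfsg.Agent.SzRecog

open Cfsg.Agent.Zass Cfsg.Agent.SzSmall MulAction

universe u v

/-- The ovoid model satisfies the base relation. -/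
theorem isBase_szFrame {K : Type*} [Field K] [Fintype K] [CharP K 2] {m : ℕ} (h : Suzuki.SzField K m)
    (φ : K ≃+* K) (hφ : ∀ x, φ x = Suzuki.θ m x) :
    letI := ovoidAction K m
    IsBase (szFrame h (φ : K →+* K) hφ) 0 := by
  letI := ovoidAction K m
  set F := szFrame h (φ : K →+* K) hφ with hF
  have hfz01 : Suzuki.fz m (0 : K) 1 = 1 := by simp [Suzuki.fz_eq]
  have hfz11 : Suzuki.fz m (1 : K) 1 = 1 := by simp [Suzuki.fz_eq, add_assoc, CharTwo.add_self_eq_zero]
  have hfz10 : Suzuki.fz m (1 : K) 0 = 1 := by simp [Suzuki.fz_eq]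
  obtain ⟨k, g, r⟩ := szFrame_rel h (φ : K →+* K) hφ (u := ((0 : K), (1 : K)))
    (fun e => one_ne_zero (congrArg Prod.snd e))
  simp only [hfz01, div_one] at r
  obtain ⟨k', g', r'⟩ := szFrame_rel h (φ : K →+* K) hφ (u := ((1 : K), (1 : K)))
    (fun e => one_ne_zero (congrArg Prod.snd e))
  simp only [hfz11, div_one] at r'
  obtain ⟨k'', g'', r''⟩ := szFrame_rel h (φ : K →+* K) hφ (u := ((1 : K), (0 : K)))
    (fun e => one_ne_zero (congrArg Prod.fst e))
  simp only [hfz10, div_one] at r''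
  rw [← hF] at r r' r''
  have hinv := F.rel_inv r
  rw [show pinv (φ : K →+* K) ((0 : K), (1 : K)) = (0, 1) by simp [pinv, CharTwo.neg_eq]] at hinv
  have hg : g = (1, 1) := by
    rw [(F.rel_unique r hinv).2.2]
    simp [pinv, CharTwo.neg_eq]
  subst hg
  have hk : k = 1 := by
    have e : F.s * F.T (0, 1) * F.s = F.T (1, 0) * F.d k * F.s * F.T (1, 1) := r
    have e1 := congrArg (· • (F.T (1, 1) • F.b)) e
    simp only [mul_smul] at e1
    rw [F.rel_apply_a r', ← mul_smul (F.T (0, 1)) (F.T (1, 1)), ← mul_smul (F.T (1, 1)) (F.T (1, 1)), F.T_mul,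
      F.T_mul] at e1
    rw [show pmul (φ : K →+* K) ((0 : K), (1 : K)) (1, 1) = (1, 0) by simp [pmul, CharTwo.add_self_eq_zero],
      show pmul (φ : K →+* K) ((1 : K), (1 : K)) (1, 1) = (0, 1) by
        simp [pmul, CharTwo.add_self_eq_zero],
      F.rel_apply_a r, F.rel_apply_a r''] at e1
    have e2 : F.d k • (F.T (1, 0) • F.b) = F.T (pact (φ : K →+* K) k (1, 0)) • F.b := by
      rw [← F.d_conj, mul_smul, mul_smul, inv_smul_eq_iff.2 (F.d_b k).symm]
    rw [e2, ← mul_smul, F.T_mul] at e1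
    have e3 := congrArg Prod.fst (F.T_b_inj e1)
    simp only [pmul, pact, mul_one] at e3
    exact Units.ext ((CharTwo.add_eq_zero.mp e3.symm).symm.trans Units.val_one.symm)
  subst hk
  show F.Rel (0, 1) (1, 0) 1 (1, 0 + 1)
  rwa [zero_add]

variable {G : Type u} [Group G] [Fintype G] {Ω : Type v} [MulAction G Ω] [Fintype Ω]

/-- A simple Zassenhaus group with nonabelian kernel is a Suzuki group. -/
theorem isoSuzuki {a b : Ω} {H : Subgroup G} (S : ZassSuz.Suz a b H) : Cfsg.Lie.IsoSuzuki G := by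
  classical
  obtain ⟨K, i1, i2, φ, hcard, hne, ⟨F0⟩⟩ := exists_frame S
  obtain ⟨n, hn2, hn⟩ := S.exists_pow
  have hK : OddDeg K n := ⟨S.odd_exponent hn, by rw [hcard, hn]⟩
  haveI := hK.charP
  obtain ⟨F1, c, hb⟩ := exists_base S hK φ F0 hn
  obtain ⟨ψ, F, hbase⟩ : ∃ (ψ : K ≃+* K) (F : Frame (ψ : K →+* K) G Ω), IsBase F 0 := by
    rcases c_cases hK hne hb with rfl | rfl
    · exact ⟨φ, F1, hb⟩
    · exact ⟨φ.symm, _, isBase_mirror hb⟩
  obtain ⟨m, hm⟩ := hK.odd
  have hF : Suzuki.SzField K m := ⟨by omega, by rw [hK.card, hm]⟩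
  have hψ : ∀ x, ψ x = Suzuki.θ m x := hK.eq_theta ψ hm (twist_sq hK hbase)
  letI := ovoidAction K m
  choose fn hfn hfn' using fun (u : K × K) (hu : u ≠ 0) =>
    common hK (szFrame hF (ψ : K →+* K) hψ) hbase (isBase_szFrame hF ψ hψ) hu
  obtain ⟨e⟩ := equiv_of_frames F (szFrame hF (ψ : K →+* K) hψ)
    (fun u => if hu : u = 0 then 0 else fn u hu)
    (fun u hu => by simpa only [dif_neg hu] using hfn u hu)
    (fun u hu => by simpa only [dif_neg hu] using hfn' u hu)
  exact ⟨K, i1, i2, m, hF.one_le, hF.card, ⟨e.trans (Suzuki.minorEquiv hF)⟩⟩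

omit [Fintype G] in
/-- The classification of simple Zassenhaus groups, with the groups named. -/
theorem classification [Finite G] (hZ : Cfsg.IsZassenhausGroup G Ω) [IsSimpleGroup G] :
    (∃ (F : Type) (_ : Field F) (_ : Fintype F),
      Nonempty (G ≃* Matrix.ProjectiveSpecialLinearGroup (Fin 2) F)) ∨ Cfsg.Lie.IsoSuzuki G := by
  classical
  letI : Fintype G := Fintype.ofFinite G
  obtain ⟨g, -, a, b, hab, -, -⟩ := hZ.2.2.2.1
  obtain ⟨H, D⟩ := ZassKer.exists_ker hZ hab
  by_cases hna : ∃ u ∈ H, ∃ v ∈ H, u * v ≠ v * u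
  · exact Or.inr (isoSuzuki (ZassSuz.Suz.of_ker D hna))
  push Not at hna
  left
  have A := D.ab hna
  rcases Nat.even_or_odd (Nat.card (two (G := G) a b)) with hev | hodd
  · obtain ⟨F, i1, i2, -, h⟩ := A.psl_of_simple hev
    exact ⟨F, i1, i2, h⟩
  rcases A.main with ⟨h3, hs⟩ | ⟨F, i1, i2, -, h⟩
  · rcases A.dichotomy with heq | ⟨heq, s, hs', -⟩
    · have hh : Even (Nat.card H) := by
        rw [heq] at hodd
        have := D.two_le
        obtain ⟨k, hk⟩ := hodd
        exact ⟨k + 1, by omega⟩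
      obtain ⟨p, f, hp, hf, hpf⟩ := (isPrimePow_nat_iff _).mp D.isPrimePow
      have hp2 : p = 2 := by
        rw [← hpf] at hh
        exact ((Nat.prime_dvd_prime_iff_eq Nat.prime_two hp).mp
          (Nat.prime_two.dvd_of_dvd_pow hh.two_dvd)).symm
      subst hp2
      have hcard : Nat.card Ω = 2 ^ f + 1 := by rw [Nat.card_eq_fintype_card, ← D.card, hpf]
      obtain ⟨e1⟩ := SharpEven.equiv_pgl hf hcard (SharpEven.sharp3_of_pretransitive h3 hs)
      haveI : Fintype (GaloisField 2 f) := Fintype.ofFinite _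
      obtain ⟨e2⟩ := SharpEven.psl_equiv_pgl (F := GaloisField 2 f) (f := f)
        (by rw [← Nat.card_eq_fintype_card, GaloisField.card 2 f (by omega)])
      exact ⟨GaloisField 2 f, inferInstance, inferInstance, ⟨e1.trans e2.symm⟩⟩
    · obtain ⟨F, i1, i2, φ, lam, hφ, hadd, hlam, hact⟩ := A.exists_field heq (by
        intro k hk l hl
        have hinv := A.inv_odd heq hodd hs'
        refine inv_injective ?_
        rw [← hinv _ (mul_mem hk hl), ← hinv _ (mul_mem hl hk)]
        calc s * (k * l) * s = (s * k * s) * (s * l * s) := by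
              rw [show s * k * s * (s * l * s) = s * k * (s * s) * l * s by group, hs'.sq]; group
          _ = (l * k)⁻¹ := by rw [hinv k hk, hinv l hl]; group
          _ = s * (l * k) * s := (hinv _ (mul_mem hl hk)).symm)
      exact ⟨F, i1, i2, (A.equiv_psl φ lam hφ hadd hlam hact heq hs' (A.inv_odd heq hodd hs')).2⟩
  · exact ⟨F, i1, i2, h⟩

end Cfsg.Agent.SzRecog
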