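import Cfsg.Agent.Lib.SzRecog.Field
import Cfsg.Agent.Lib.SzSmall.Build
import Cfsg.Agent.Lib.SzSmall.ToriPair

/-!
# A base relation in a simple Zassenhaus group with nonabelian kernel

An element of order four inducing squaring on an element of order five in a torus gives coordinates with
`s T(0,1) s = T(1,c) s T(1,c+1)`.
-/

set_option autoImplicit false
set_option linter.unusedSectionVars false
set_option linter.style.haveILetI false

namespace Cfsg.Agent.SzRecog

open Cfsg.Agent.Zass Cfsg.Agent.ZassSuz Cfsg.Agent.SzSmall MulAction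

universe u v w

variable {G : Type u} [Group G] [Fintype G] {Ω : Type v} [MulAction G Ω] [Fintype Ω]

theorem five_dvd {n : ℕ} (hn : Odd n) : 5 ∣ (2 ^ n) ^ 2 + 1 := by
  obtain ⟨k, rfl⟩ := hn
  refine Nat.dvd_of_mod_eq_zero ?_
  rw [← pow_mul, mul_comm, pow_mul, show (2 : ℕ) ^ 2 = 4 by norm_num, pow_succ, pow_mul, Nat.add_mod,
    Nat.mul_mod, Nat.pow_mod]
  norm_num

variable {a b : Ω} {H : Subgroup G} (S : ZassSuz.Suz a b H)
include S

/-- An element of order four inducing squaring on an element of order five without fixed points. -/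
theorem exists_squaring {T : Subgroup G} (hT : IsTorus Ω T) (h5 : 5 ∣ Nat.card T)
    (hN : Nat.card (Subgroup.normalizer (T : Set G)) = Nat.card T * 4) :
    ∃ y e : G, (y * y) * (y * y) = 1 ∧ y * y ≠ 1 ∧ e ^ 5 = 1 ∧ (∀ c : Ω, e • c ≠ c) ∧
      (y * y) * e * (y * y) = e⁻¹ ∧ y * e * y⁻¹ = e * e := by
  classical
  haveI : Fact (Nat.Prime 2) := ⟨Nat.prime_two⟩
  haveI : Fact (Nat.Prime 5) := ⟨by norm_num⟩
  obtain ⟨-, -, -, hcomm⟩ := S.torus_inv hT
  obtain ⟨W, hW⟩ := Sylow.exists_subgroup_card_pow_prime 2 (n := 2)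
    (G := Subgroup.normalizer (T : Set G)) (hN ▸ ⟨Nat.card T, by ring⟩)
  have hfpf : ∀ τ ∈ T, τ ≠ 1 → ∀ c : Ω, τ • c ≠ c := fun τ hτ h => S.torus_fpf hT hτ h
  have hinv : ∀ x : W, x * x = 1 → x ≠ 1 → ∀ τ ∈ T, ((x : Subgroup.normalizer (T : Set G)) : G) * τ *
      ((x : Subgroup.normalizer (T : Set G)) : G) = τ⁻¹ := by
    intro x hx hx1
    set g : G := ((x : Subgroup.normalizer (T : Set G)) : G) with hg
    have hg2 : g * g = 1 := congrArg (fun z : W => ((z : Subgroup.normalizer (T : Set G)) : G)) hx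
    have hg1 : g ≠ 1 := fun h => hx1 (Subtype.ext (Subtype.ext h))
    refine (S.inverts_of hfpf (orderOf_two_iff.mpr ⟨hg2, hg1⟩) fun τ hτ => ?_).1
    have h := ((Subgroup.mem_normalizer_iff.mp (x : Subgroup.normalizer (T : Set G)).2) τ).mp hτ
    rwa [inv_eq_of_mul_eq_one_right hg2] at h
  obtain ⟨y, hy⟩ : ∃ y : W, y * y ≠ 1 := by
    by_contra hall
    push Not at hall
    have h2 : 2 < Fintype.card W := by
      rw [← Nat.card_eq_fintype_card, hW]; norm_num
    obtain ⟨x, x', hxx'⟩ : ∃ x x' : W, x ≠ 1 ∧ x' ≠ 1 ∧ x ≠ x' := by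
      obtain ⟨p, q, r, hpq, hpr, hqr⟩ := Fintype.two_lt_card_iff.mp h2
      rcases eq_or_ne p 1 with rfl | hp
      · exact ⟨q, r, hpq.symm, hpr.symm, hqr⟩
      rcases eq_or_ne q 1 with rfl | hq
      · exact ⟨p, r, hp, hqr.symm, hpr⟩
      exact ⟨p, q, hp, hq, hpq⟩
    have hu1 : x * x' ≠ 1 := fun h => hxx'.2.2 ((mul_eq_one_iff_eq_inv.mp h).trans
      (inv_eq_of_mul_eq_one_right (hall x')))
    have hi := hinv _ (hall x) hxx'.1
    have hi' := hinv _ (hall x') hxx'.2.1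
    have hu := hinv _ (hall (x * x')) hu1
    obtain ⟨τ, hτ, hτ1⟩ := S.torus_ne_bot hT
    set g := ((x : Subgroup.normalizer (T : Set G)) : G) with hg
    set g' := ((x' : Subgroup.normalizer (T : Set G)) : G) with hg'
    have hgg' : g * g' = g' * g := by
      have hc : x * x' = x' * x := by
        rw [← inv_eq_of_mul_eq_one_right (hall (x * x')), mul_inv_rev, inv_eq_of_mul_eq_one_right (hall x),
          inv_eq_of_mul_eq_one_right (hall x')]
      exact congrArg (fun z : W => ((z : Subgroup.normalizer (T : Set G)) : G)) hc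
    have h : τ⁻¹ = τ := by
      have h1 := hu τ hτ
      rw [show ((((x * x' : W)) : Subgroup.normalizer (T : Set G)) : G) = g * g' from rfl] at h1
      rw [show g * g' * τ * (g * g') = g * g' * τ * (g' * g) by rw [hgg'],
        show g * g' * τ * (g' * g) = g * (g' * τ * g') * g by group, hi' τ hτ, hi _ (inv_mem hτ), inv_inv] at h1
      exact h1.symm
    have h2 : τ * τ = 1 := by rw [← inv_mul_cancel τ, h]
    have hτo : orderOf τ = 2 := orderOf_two_iff.mpr ⟨h2, hτ1⟩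
    have := S.fpf_odd (hfpf τ hτ hτ1)
    rw [hτo] at this
    exact absurd this (by decide)
  have hy4 : (y * y) * (y * y) = 1 := by
    have h := pow_card_eq_one' (G := W) (x := y)
    rw [hW] at h
    rw [← h, show (2 : ℕ) ^ 2 = 2 + 2 by rfl, pow_add, pow_two]
  set g : G := ((y : Subgroup.normalizer (T : Set G)) : G) with hg
  have hz : ∀ τ ∈ T, g * g * τ * (g * g) = τ⁻¹ := hinv _ hy4 hy
  have hz2 : g * g * (g * g) = 1 := congrArg (fun z : W => ((z : Subgroup.normalizer (T : Set G)) : G)) hy4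
  have hz1 : g * g ≠ 1 := fun h => hy (Subtype.ext (Subtype.ext h))
  have hzi : (g * g)⁻¹ = g * g := inv_eq_of_mul_eq_one_right hz2
  have hgN : ∀ τ, τ ∈ T ↔ g * τ * g⁻¹ ∈ T :=
    Subgroup.mem_normalizer_iff.mp (y : Subgroup.normalizer (T : Set G)).2
  obtain ⟨e0, he0⟩ := exists_prime_orderOf_dvd_card' (G := T) 5 h5
  have he05 : (e0 : G) ^ 5 = 1 := by
    rw [← Subgroup.coe_pow, ← he0, pow_orderOf_eq_one, Subgroup.coe_one]
  have he01 : (e0 : G) ≠ 1 := fun h => by
    rw [← Subgroup.orderOf_coe, h, orderOf_one] at he0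
    norm_num at he0
  set f := g * e0 * g⁻¹ with hf
  have hfT : f ∈ T := (hgN _).mp e0.2
  have hgf : g * f * g⁻¹ = (e0 : G)⁻¹ := by
    rw [hf, ← hz _ e0.2]
    calc g * (g * (e0 : G) * g⁻¹) * g⁻¹ = g * g * e0 * (g * g)⁻¹ := by group
      _ = _ := by rw [hzi]
  have hc : Commute f (e0 : G) := hcomm f hfT _ e0.2
  have hf5 : f ^ 5 = 1 := by rw [hf, conj_pow, he05]; group
  have he4 : (e0 : G) ^ 4 = (e0 : G)⁻¹ := eq_inv_of_mul_eq_one_left (by rw [← pow_succ, he05])
  by_cases he1 : f * (e0 : G) ^ 2 = 1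
  · refine ⟨g⁻¹, e0, ?_, ?_, he05, hfpf _ e0.2 he01, ?_, ?_⟩
    · rw [← mul_inv_rev, hzi]; exact hz2
    · rw [← mul_inv_rev, hzi]; exact hz1
    · rw [← mul_inv_rev, hzi]; exact hz _ e0.2
    · have h1 : f = (e0 : G) ^ 3 := by
        rw [eq_inv_of_mul_eq_one_left he1]
        exact inv_eq_of_mul_eq_one_right (by rw [← pow_add, he05])
      have h2 : g * ((e0 : G) * e0) * g⁻¹ = e0 := by
        calc g * ((e0 : G) * e0) * g⁻¹ = f * f := by rw [hf]; group
          _ = (e0 : G) ^ 5 * e0 := by rw [h1, ← pow_add, ← pow_succ]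
          _ = e0 := by rw [he05, one_mul]
      conv_lhs => rw [← h2]
      group
  · refine ⟨g, f * (e0 : G) ^ 2, hz2, hz1, ?_, hfpf _ (mul_mem hfT (pow_mem e0.2 2)) he1,
      hz _ (mul_mem hfT (pow_mem e0.2 2)), ?_⟩
    · rw [(hc.pow_right 2).mul_pow, hf5, one_mul, pow_right_comm, he05, one_pow]
    · calc g * (f * (e0 : G) ^ 2) * g⁻¹ = (g * f * g⁻¹) * (g * e0 * g⁻¹) ^ 2 := by rw [conj_pow]; group
        _ = f ^ 2 * (e0 : G) ^ 4 := by rw [hgf, he4]; exact ((hc.symm.pow_right 2).inv_left).eq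
        _ = _ := by
          rw [show f * (e0 : G) ^ 2 * (f * (e0 : G) ^ 2) = f * ((e0 : G) ^ 2 * f) * (e0 : G) ^ 2 by group,
            ← (hc.pow_right 2).eq, pow_two f, show (4 : ℕ) = 2 + 2 by rfl, pow_add]
          simp only [mul_assoc]

/-- Coordinates with a base relation. -/
theorem exists_base {K : Type w} [Field K] [Fintype K] {n : ℕ} (hK : OddDeg K n) (φ : K ≃+* K)
    (F : Frame (φ : K →+* K) G Ω) (hn : Nat.card (two (G := G) a b) + 1 = 2 ^ n) :
    ∃ (F' : Frame (φ : K →+* K) G Ω) (c : K), F'.Rel (0, 1) (1, c) 1 (1, c + 1) := by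
  classical
  haveI := hK.charP
  obtain ⟨T, T', hT, hT', hN, hN', -, hmul⟩ := torus_pair_normalizer S hn
  obtain ⟨y, e, hy4, hy2, he5, hefpf, hze, hye⟩ : ∃ y e : G, (y * y) * (y * y) = 1 ∧ y * y ≠ 1 ∧ e ^ 5 = 1 ∧
      (∀ c : Ω, e • c ≠ c) ∧ (y * y) * e * (y * y) = e⁻¹ ∧ y * e * y⁻¹ = e * e := by
    rcases (Nat.Prime.dvd_mul (by norm_num : Nat.Prime 5)).mp (hmul ▸ five_dvd hK.odd) with h | h
    · exact exists_squaring S hT h hN
    · exact exists_squaring S hT' h hN'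
  obtain ⟨z, hz⟩ : ∃ z, z = y * y := ⟨_, rfl⟩
  rw [← hz] at hy4 hy2 hze
  obtain ⟨a', ha'⟩ := S.exists_fix (orderOf_two_iff.mpr ⟨hy4, hy2⟩)
  have hza : z • a' = a' := (ha' a').mpr rfl
  have hya : y • a' = a' :=
    S.comm_inv_fix (orderOf_two_iff.mpr ⟨hy4, hy2⟩) hza (by rw [hz, mul_assoc])
  have hss : (z * e) * (z * e) = 1 := by
    rw [show z * e * (z * e) = z * e * z * e by group, hze, inv_mul_cancel]
  have hsne : a' ≠ (z * e) • a' := by
    intro h
    refine hefpf a' ?_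
    have h' := congrArg (z • ·) h
    simp only [hza, ← mul_smul, ← mul_assoc, hy4, one_mul] at h'
    exact h'.symm
  have hkey : (z * e) * z * (z * e) = y * (z * e) * y⁻¹ := by
    calc (z * e) * z * (z * e) = z * e * (z * z) * e := by group
      _ = z * (e * e) := by rw [hy4, mul_one, mul_assoc]
      _ = _ := by rw [← hye, hz]; group
  obtain ⟨g, hga, hgb⟩ := S.toData.move_to (p := F.a) (q := F.b) F.ne
  obtain ⟨g', hga', hgb'⟩ := S.toData.move_to (p := a') (q := (z * e) • a') hsne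
  -- move the configuration to the base points
  obtain ⟨h, hha, hhb⟩ : ∃ h : G, h • F.a = a' ∧ h • F.b = (z * e) • a' :=
    ⟨g' * g⁻¹, by rw [← hga, mul_smul, inv_smul_smul, hga'], by rw [← hgb, mul_smul, inv_smul_smul, hgb']⟩
  obtain ⟨y1, hy1⟩ : ∃ y1, y1 = h⁻¹ * y * h := ⟨_, rfl⟩
  obtain ⟨s1, hs1⟩ : ∃ s1, s1 = h⁻¹ * (z * e) * h := ⟨_, rfl⟩
  have hs1s : s1 * s1 = 1 := by
    rw [hs1, show h⁻¹ * (z * e) * h * (h⁻¹ * (z * e) * h) = h⁻¹ * ((z * e) * (z * e)) * h by group, hss]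
    group
  have hy1a : y1 • F.a = F.a := by rw [hy1, mul_smul, mul_smul, hha, hya, inv_smul_eq_iff, hha]
  have hs1a : s1 • F.a = F.b := by rw [hs1, mul_smul, mul_smul, hha, inv_smul_eq_iff, hhb]
  have hs1b : s1 • F.b = F.a := by rw [← hs1a, ← mul_smul, hs1s, one_smul]
  have hkey1 : s1 * (y1 * y1) * s1 = y1 * s1 * y1⁻¹ := by
    rw [hs1, hy1]
    calc h⁻¹ * (z * e) * h * (h⁻¹ * y * h * (h⁻¹ * y * h)) * (h⁻¹ * (z * e) * h)
        = h⁻¹ * ((z * e) * (y * y) * (z * e)) * h := by group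
      _ = h⁻¹ * (y * (z * e) * y⁻¹) * h := by rw [← hz, hkey]
      _ = _ := by group
  have hy14 : y1 * y1 * (y1 * y1) = 1 := by
    rw [hy1]
    calc _ = h⁻¹ * ((y * y) * (y * y)) * h := by group
      _ = 1 := by rw [← hz, hy4]; group
  have hy12 : y1 * y1 ≠ 1 := fun h0 => hy2 (by
    calc z = h * (y1 * y1) * h⁻¹ := by rw [hy1, hz]; group
      _ = 1 := by rw [h0]; group)
  -- the point stabiliser part
  obtain ⟨p, k, hpk⟩ := F.stab y1 hy1a
  have hsd : ∀ (l : Kˣ) (q : K × K), F.T q * F.d l * (F.T q * F.d l) =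
      F.T (pmul (φ : K →+* K) q (pact (φ : K →+* K) l q)) * F.d (l * l) := by
    intro l q
    rw [← F.T_mul, ← F.d_conj, map_mul]
    group
  have hk4 : k * k * (k * k) = 1 := by
    rw [hpk, hsd, hsd] at hy14
    have h1 := congrArg (· • F.b) hy14
    simp only [mul_smul, F.d_b, one_smul] at h1
    have hp0 := F.T_b_inj (h1.trans (by rw [F.T_zero, one_smul] : F.b = F.T 0 • F.b))
    rw [hp0, F.T_zero, one_mul] at hy14
    by_contra hne
    have h2 := F.d_conj (k * k * (k * k)) (1, 0)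
    rw [hy14, one_mul, inv_one, mul_one] at h2
    have h3 := congrArg Prod.fst (F.T_injective h2)
    simp only [pact, mul_one] at h3
    exact hne (Units.ext h3.symm)
  have hk : k = 1 := by
    have h1 : (k : K) * k * ((k : K) * k) = 1 * 1 * (1 * 1) := by
      rw [← Units.val_mul, ← Units.val_mul, hk4]; simp
    exact Units.ext ((hK.sq_inj (hK.sq_inj h1)).trans Units.val_one.symm)
  rw [hk, map_one, mul_one] at hpk
  have hy11 : y1 * y1 = F.T (0, φ p.1 * p.1) := by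
    rw [hpk, F.T_mul]
    congr 1
    ext <;> simp [pmul, CharTwo.add_self_eq_zero]
  have hp1 : p.1 ≠ 0 := fun h0 => hy12 (by
    rw [hy11, h0, mul_zero]
    exact F.T_zero)
  -- the swapping involution
  obtain ⟨q, l, hql⟩ := F.stab (F.s * s1) (by rw [mul_smul, hs1a, F.s_b])
  have hq : q = 0 := by
    refine F.T_b_inj ?_
    have h1 := congrArg (· • F.b) hql
    simp only [mul_smul, F.d_b, hs1b, F.s_a] at h1
    rw [← h1, F.T_zero, one_smul]
  rw [hq, F.T_zero, one_mul] at hql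
  have hs1F : (F.reswap l).s = s1 := by
    show F.s * F.d l = s1
    rw [← hql, ← mul_assoc, F.s_sq, one_mul]
  obtain ⟨x0, hx0⟩ : ∃ x0 : Kˣ, (x0 : K) = p.1 := ⟨Units.mk0 _ hp1, rfl⟩
  let cE : K × K ≃ K × K :=
    { toFun := fun r => pact (φ : K →+* K) x0 r
      invFun := fun r => pact (φ : K →+* K) x0⁻¹ r
      left_inv := fun r => by
        simp only [pact]
        simp only [RingEquiv.coe_toRingHom]
        ext
        · rw [← mul_assoc, Units.inv_mul, one_mul]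
        · rw [show φ ((x0⁻¹ : Kˣ) : K) * ((x0⁻¹ : Kˣ) : K) * (φ (x0 : K) * (x0 : K) * r.2) =
            φ (((x0⁻¹ : Kˣ) : K) * x0) * (((x0⁻¹ : Kˣ) : K) * x0) * r.2 by rw [map_mul]; ring]
          simp
      right_inv := fun r => by
        simp only [pact]
        simp only [RingEquiv.coe_toRingHom]
        ext
        · rw [← mul_assoc, Units.mul_inv, one_mul]
        · rw [show φ (x0 : K) * (x0 : K) * (φ ((x0⁻¹ : Kˣ) : K) * ((x0⁻¹ : Kˣ) : K) * r.2) =
            φ ((x0 : K) * ((x0⁻¹ : Kˣ) : K)) * ((x0 : K) * ((x0⁻¹ : Kˣ) : K)) * r.2 by rw [map_mul]; ring]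
          simp }
  let F2 : Frame (φ : K →+* K) G Ω := (F.reswap l).reparam cE (MulEquiv.refl _)
    (fun r r' => by simp [cE, pact, pmul, map_mul]; constructor <;> ring)
    (fun k' r => by simp [cE, pact, map_mul]; constructor <;> ring)
  refine ⟨F2, p.2 / (φ p.1 * p.1), ?_⟩
  show (F.reswap l).s * F.T (cE (0, 1)) * (F.reswap l).s =
    F.T (cE (1, _)) * F.d 1 * (F.reswap l).s * F.T (cE (1, _))
  have e1 : cE (0, 1) = (0, φ p.1 * p.1) := by simp [cE, pact, hx0]
  have e2 : cE (1, p.2 / (φ p.1 * p.1)) = p := by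
    have : φ p.1 * p.1 ≠ 0 := mul_ne_zero (by simpa using hp1) hp1
    simp [cE, pact, hx0, mul_div_cancel₀ _ this]
  have e3 : cE (1, p.2 / (φ p.1 * p.1) + 1) = pinv (φ : K →+* K) p := by
    have : φ p.1 * p.1 ≠ 0 := mul_ne_zero (by simpa using hp1) hp1
    simp [cE, pact, pinv, hx0, mul_add, mul_div_cancel₀ _ this, CharTwo.neg_eq]
  rw [e1, e2, e3, map_one, mul_one, hs1F, ← hy11, ← F.T_inv, ← hpk, hkey1]

end Cfsg.Agent.SzRecog
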