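import Mathlib.FieldTheory.Finite.Basic
import Mathlib.FieldTheory.Galois.Basic
import Mathlib.Algebra.CharP.Two
import Mathlib.Tactic

/-!
# Automorphisms of fields with `2 ^ n` elements, `n` odd, and the identities behind the recognition of `Sz(q)`
-/

set_option autoImplicit false
set_option linter.unusedSectionVars false

namespace Cfsg.Agent.SzRecog

universe u

/-- A field with `2 ^ n` elements, `n` odd. -/
structure OddDeg (K : Type u) [Field K] [Fintype K] (n : ℕ) : Prop where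
  odd : Odd n
  card : Fintype.card K = 2 ^ n

namespace OddDeg

variable {K : Type u} [Field K] [Fintype K] {n : ℕ} (hK : OddDeg K n)
include hK

theorem charP : CharP K 2 := by
  obtain ⟨p, hp⟩ := CharP.exists K
  have := hp
  obtain ⟨k, hk, hc⟩ := FiniteField.card K p
  rw [hK.card] at hc
  have h2 : 2 = p := by
    have : (2 : ℕ) ∣ p ^ (k : ℕ) := hc ▸ dvd_pow_self 2 (by have := hK.odd.pos; omega)
    exact (Nat.prime_dvd_prime_iff_eq Nat.prime_two hk).mp (Nat.prime_two.dvd_of_dvd_pow this)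
  exact h2 ▸ hp

theorem cube_eq_one {x : K} (hx : x ^ 3 = 1) : x = 1 := by
  have h0 : x ≠ 0 := fun e => by simp [e] at hx
  have h1 := FiniteField.pow_card_sub_one_eq_one x h0
  rw [hK.card] at h1
  obtain ⟨k, rfl⟩ := hK.odd
  have h4 : (2 : ℕ) ^ (2 * k + 1) % 3 = 2 := by
    rw [pow_succ, pow_mul, Nat.mul_mod, Nat.pow_mod]
    norm_num
  have h5 : 1 ≤ (2 : ℕ) ^ (2 * k + 1) := Nat.one_le_two_pow
  rw [show 2 ^ (2 * k + 1) - 1 = 3 * (2 ^ (2 * k + 1) / 3) + 1 by omega, pow_succ, pow_mul, hx,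
    one_pow, one_mul] at h1
  exact h1

theorem cube_inj {a b : K} (h : a ^ 3 = b ^ 3) : a = b := by
  rcases eq_or_ne b 0 with rfl | hb
  · rw [zero_pow (by norm_num)] at h
    exact pow_eq_zero_iff (by norm_num) |>.mp h
  · have := hK.cube_eq_one (x := a / b) (by rw [div_pow, h, div_self (pow_ne_zero _ hb)])
    exact (div_eq_one_iff_eq hb).mp this

theorem sq_inj {a b : K} (h : a * a = b * b) : a = b := by
  haveI := hK.charP
  rcases mul_self_eq_mul_self_iff.mp h with h | h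
  · exact h
  · rwa [CharTwo.neg_eq] at h

theorem exists_pow_rep (φ : K ≃+* K) : ∃ j : ℕ, ∀ x, φ x = x ^ 2 ^ j := by
  haveI := hK.charP
  letI : Algebra (ZMod 2) K := ZMod.algebra K 2
  haveI : Fact (Nat.Prime 2) := ⟨Nat.prime_two⟩
  let e : K ≃ₐ[ZMod 2] K := AlgEquiv.ofRingEquiv (f := φ) fun x =>
    RingHom.congr_fun (Subsingleton.elim ((φ : K →+* K).comp (algebraMap (ZMod 2) K)) (algebraMap (ZMod 2) K)) x
  obtain ⟨j, hj⟩ := (FiniteField.bijective_frobeniusAlgEquivOfAlgebraic_pow (ZMod 2) K).2 e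
  refine ⟨j, fun x => ?_⟩
  have h : (FiniteField.frobeniusAlgEquivOfAlgebraic (ZMod 2) K ^ (j : ℕ)) x = φ x :=
    AlgEquiv.congr_fun hj x
  rw [← h, AlgEquiv.coe_pow, FiniteField.coe_frobeniusAlgEquivOfAlgebraic_iterate, ZMod.card]

theorem iterate_eq (φ : K ≃+* K) {i : ℕ} {j : ℕ} (hj : ∀ x, φ x = x ^ 2 ^ j) (x : K) :
    φ^[i] x = x ^ 2 ^ (j * i) := by
  induction i with
  | zero => simp
  | succ i ih => rw [Function.iterate_succ_apply', ih, hj, ← pow_mul, ← pow_add]; ring_nf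

theorem iterate_self (φ : K ≃+* K) (x : K) : φ^[n] x = x := by
  obtain ⟨j, hj⟩ := hK.exists_pow_rep φ
  rw [hK.iterate_eq φ hj, mul_comm, pow_mul, ← hK.card]
  exact FiniteField.pow_card_pow j x

theorem phi_inv_fixed (φ : K ≃+* K) {k : K} (h : φ k = k⁻¹) : k = 0 ∨ k = 1 := by
  have h2 : φ^[2] k = k := by
    show φ (φ k) = k
    rw [h, map_inv₀, h, inv_inv]
  obtain ⟨i, hi⟩ := hK.odd
  have h3 := hK.iterate_self φ k
  rw [hi, Nat.add_comm, Function.iterate_add_apply, Function.iterate_mul,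
    Function.iterate_fixed h2 i, Function.iterate_one, h] at h3
  rcases eq_or_ne k 0 with h0 | h0
  · exact Or.inl h0
  · refine Or.inr (hK.sq_inj ?_)
    rw [mul_one, ← mul_inv_cancel₀ h0, h3]

theorem norm_inj (φ : K ≃+* K) {a b : K} (h : φ a * a = φ b * b) : a = b := by
  rcases eq_or_ne b 0 with rfl | hb
  · simpa using h
  · have hb' : φ b ≠ 0 := by simpa using hb
    rcases eq_or_ne a 0 with rfl | ha
    · simp [hb] at h
    · have h1 : φ (a / b) * (a / b) = 1 := by rw [map_div₀, div_mul_div_comm, h, div_self (mul_ne_zero hb' hb)]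
      rcases hK.phi_inv_fixed φ (eq_inv_of_mul_eq_one_left h1) with e | e
      · exact absurd e (div_ne_zero ha hb)
      · exact (div_eq_one_iff_eq hb).mp e

theorem norm_bijective (φ : K ≃+* K) : Function.Bijective fun a => φ a * a :=
  (Finite.injective_iff_bijective).mp fun _ _ h => hK.norm_inj φ h

theorem eq_theta (φ : K ≃+* K) {m : ℕ} (hn : n = 2 * m + 1) (h : ∀ x, φ (φ x) = x ^ 2) (x : K) :
    φ x = x ^ 2 ^ (m + 1) := by
  have key : ∀ i, φ^[2 * i] x = x ^ 2 ^ i := by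
    intro i
    induction i with
    | zero => simp
    | succ i ih =>
      rw [show 2 * (i + 1) = 2 * i + 1 + 1 by ring, Function.iterate_succ_apply', Function.iterate_succ_apply',
        ih, h, ← pow_mul, ← pow_succ]
  rw [← key (m + 1), show 2 * (m + 1) = 1 + n by omega, Function.iterate_add_apply, hK.iterate_self]
  rfl

end OddDeg

section Identities

variable {K : Type u} [Field K] [CharP K 2]

/-- The two coordinate comparisons give one linear condition. -/
theorem linear_step {β r ρ t : K} (h1 : (1 + t * (1 + r)) * ((1 + β) * ρ) = β * r * (1 + t * (1 + β) * (1 + ρ)))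
    (h2 : (β * (t * r + 1) + (1 + r)) * ((1 + ρ) * (1 + β)) = (1 + r) * (t * (1 + β) * ρ + 1)) :
    ρ * (1 + β) * (β + r) = β ^ 2 := by
  grind

/-- The quadratic condition. -/
theorem quad_step {c β p r pr ρ pρ : K} (hr : c * r + (1 + c) * pr = p * β)
    (hρ : (1 + β) * (1 + p) * (c * ρ + (1 + c) * pρ) = c * β + (1 + c) * p)
    (hS : 1 + r + pr = (1 + β) * (1 + p) * (1 + ρ + pρ)) (hl : ρ * (1 + β) * (β + r) = β ^ 2) :
    (β + r) ^ 2 + c * (p * β) * (β + r) + β ^ 2 * (1 + p) = 0 := by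
  grind

/-- The middle step for a parameter different from zero and one. -/
theorem square_step {c β p X pX ρ pρ L : K} (hc : c ≠ 0) (hc1 : c ≠ 1) (hβ : β ≠ 0) (hp : p ≠ 0)
    (hp1 : 1 + p ≠ 0) (hL : L = c * β + (1 + c) * p)
    (hY : c * X + (1 + c) * pX = p * β + L)
    (hρ : (1 + β) * (1 + p) * (c * ρ + (1 + c) * pρ) = L)
    (hl : ρ * (1 + β) * X = β ^ 2) (hl' : pρ * (1 + p) * pX = p ^ 2)
    (hX : X ^ 2 + c * (p * β) * X + β ^ 2 * (1 + p) = 0) :
    L ^ 2 = p * β * (L + (β + p)) := by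
  have h3 : c * (β ^ 2 * (1 + p)) * pX + (1 + c) * (1 + β) * p ^ 2 * X = L * X * pX := by
    linear_combination X * pX * hρ - c * (1 + p) * pX * hl - (1 + c) * (1 + β) * X * hl'
  have hM : L ^ 2 + L * (p * β) + c ^ 2 * (β ^ 2 * (1 + p)) + (1 + c) ^ 2 * (1 + β) * p ^ 2 =
      c * (1 + c) * (p * β) * (β + p) := by
    rw [hL]; grind
  have h2 : (2 : K) = 0 := CharTwo.two_eq_zero
  have h4 : c * L * X ^ 2 + c * (1 + c) * (p * β) * (β + p) * X + c * (β ^ 2 * (1 + p)) * (L + p * β) = 0 := by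
    linear_combination (1 + c) * h3 - (c * (β ^ 2 * (1 + p)) - L * X) * hY - X * hM +
      (L * X * (p * β + L) + c ^ 2 * X * (β ^ 2 * (1 + p))) * h2
  have h5 : X * (c * L + (1 + c) * (β + p)) = β ^ 2 * (1 + p) := by
    have h : c * (p * β) * (X * (c * L + (1 + c) * (β + p)) - β ^ 2 * (1 + p)) = 0 := by
      linear_combination h4 - c * L * hX + (c ^ 2 * L * (p * β) * X - c * (β ^ 2 * (1 + p)) * (p * β)) * h2
    rcases mul_eq_zero.mp h with h | h
    · exact absurd h (mul_ne_zero hc (mul_ne_zero hp hβ))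
    · exact sub_eq_zero.mp h
  have hQ : β ^ 2 * (1 + p) ≠ 0 := mul_ne_zero (pow_ne_zero _ hβ) hp1
  have h6 : (c * L + (1 + c) * (β + p)) ^ 2 + c * (p * β) * (c * L + (1 + c) * (β + p)) + β ^ 2 * (1 + p) = 0 := by
    refine (mul_eq_zero.mp (?_ : (β ^ 2 * (1 + p)) * _ = 0)).resolve_left hQ
    linear_combination (c * L + (1 + c) * (β + p)) ^ 2 * hX -
      (X * (c * L + (1 + c) * (β + p)) + β ^ 2 * (1 + p) + c * (p * β) * (c * L + (1 + c) * (β + p))) * h5
  have hc' : (1 + c) ^ 2 ≠ 0 := pow_ne_zero _ fun e => hc1 (CharTwo.add_eq_zero.mp e).symm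
  have h7 : (1 + c) ^ 2 * (L ^ 2 - p * β * (L + (β + p))) = 0 := by
    rw [hL] at h6 ⊢
    clear h5 h4 h3 hM hρ hl hl' hX hY
    grind
  exact sub_eq_zero.mp ((mul_eq_zero.mp h7).resolve_left hc')

end Identities

end Cfsg.Agent.SzRecog
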