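import Cfsg.Agent.Lib.SzRecog.Field
import Cfsg.Agent.Lib.SzSmall.Reparam

/-!
# The structure equations forced by a base relation

From `s T(0,1) s = T(1,c) s T(1,c+1)` two ways of writing one relation force `c ∈ {0, 1}` and that the
twisting map squares to the Frobenius map; then the whole structure function is determined.
-/

set_option autoImplicit false
set_option linter.unusedSectionVars false
set_option linter.style.haveILetI false

namespace Cfsg.Agent.SzRecog

open Cfsg.Agent.SzSmall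

universe u v w

variable {K : Type u} [Field K] [Fintype K] [CharP K 2] {n : ℕ} {φ : K ≃+* K}
  {G : Type v} {Ω : Type w} [Group G] [MulAction G Ω]

/-- The base relation. -/
def IsBase (F : Frame (φ : K →+* K) G Ω) (c : K) : Prop := F.Rel (0, 1) (1, c) 1 (1, c + 1)

variable {F : Frame (φ : K →+* K) G Ω} {c : K}

theorem rel_v (hb : IsBase F c) : F.Rel (1, c) (0, 1) 1 (1, c) := by
  have h := F.rel_sym hb
  convert h using 1 <;> simp [pact, pinv, CharTwo.neg_eq, add_assoc, CharTwo.add_self_eq_zero]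

theorem rel_v' (hb : IsBase F c) : F.Rel (1, c + 1) (1, c + 1) 1 (0, 1) := by
  have h := F.rel_inv (rel_v hb)
  simpa [pinv, CharTwo.neg_eq] using h

theorem one_add_ne {r : K} (h1 : r ≠ 1) : 1 + r ≠ 0 := fun e => h1 (CharTwo.add_eq_zero.mp e).symm

theorem map_one_add (r : K) : φ (1 + r) = 1 + φ r := by rw [map_add, map_one]

theorem one_add_map_ne {r : K} (h1 : r ≠ 1) : 1 + φ r ≠ 0 := by
  rw [← map_one_add]
  exact (map_ne_zero_iff _ φ.injective).mpr (one_add_ne h1)

theorem sum_ne (hK : OddDeg K n) {r : K} : 1 + r + φ r ≠ 0 := by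
  intro h
  have : φ (1 + r) * (1 + r) = φ r * r := by
    rw [map_one_add]; linear_combination h
  have := hK.norm_inj φ this
  simp at this

/-- The relation for `(1, c + L r)`. -/
theorem rel_w (hK : OddDeg K n) (hb : IsBase F c) {r : K} (h0 : r ≠ 0) (h1 : r ≠ 1) :
    ∃ (r3 : K) (f g : K × K) (h : Kˣ), r3 ≠ 0 ∧
      φ r3 * r3 * (1 + r + φ r) = φ r * r * (φ (1 + r) * (1 + r)) ∧
      F.Rel (1, c + (c * r + (1 + c) * φ r)) f h g ∧
      f.1 = (r + r3) / r ^ 2 ∧ (h : K) = (r3 / (r * (1 + r))) ^ 2 ∧ g.1 = (r3 + 1 + r) / (1 + r) ^ 2 ∧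
      f = pmul (φ : K →+* K) (r⁻¹, φ r⁻¹ * r⁻¹ * (c + 1))
        ((r⁻¹ * r⁻¹) * r3, φ (r⁻¹ * r⁻¹) * (r⁻¹ * r⁻¹) * (φ r3 * r3 * c)) := by
  have hs := one_add_ne h1
  obtain ⟨r3, hr3⟩ := (hK.norm_bijective φ).2 (φ r * r * (φ (1 + r) * (1 + r)) / (1 + r + φ r))
  have hr3' : φ r3 * r3 * (1 + r + φ r) = φ r * r * (φ (1 + r) * (1 + r)) :=
    (eq_div_iff (sum_ne hK)).mp hr3
  have hr : φ r * r ≠ 0 := mul_ne_zero (by simpa using h0) h0
  have hs' : φ (1 + r) * (1 + r) ≠ 0 := mul_ne_zero (fun e => hs (φ.injective (by rw [e, map_zero]))) hs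
  have h30 : r3 ≠ 0 := fun e => by
    rw [e, mul_zero, zero_mul] at hr3'
    exact mul_ne_zero hr hs' hr3'.symm
  have rw0 := F.rel_scale (rel_v' hb) (Units.mk0 r h0)
  have ru0 := F.rel_scale hb (Units.mk0 (1 + r) hs)⁻¹
  have rR0 := F.rel_scale hb (Units.mk0 r3 h30)⁻¹
  have hR : pact (φ : K →+* K) (Units.mk0 r3 h30)⁻¹ (0, 1) =
      pmul (φ : K →+* K) (pact (φ : K →+* K) (Units.mk0 r h0)⁻¹ (0, 1))
        (pact (φ : K →+* K) (Units.mk0 (1 + r) hs)⁻¹ (0, 1)) := by
    have h3' : φ r3 ≠ 0 := by simpa using h30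
    have hrr : φ r ≠ 0 := by simpa using h0
    have hss : φ (1 + r) ≠ 0 := left_ne_zero_of_mul hs'
    simp only [pact, pmul, mul_zero, mul_one, add_zero, map_zero, Prod.mk.injEq, true_and, Units.val_inv_eq_inv_val,
      Units.val_mk0, RingEquiv.coe_toRingHom, map_inv₀]
    field_simp
    rw [map_one_add] at hr3' ⊢
    linear_combination -hr3' - φ r3 * r3 * φ r * r * CharTwo.two_eq_zero (R := K)
  rw [hR] at rR0
  have rr := F.rel_eq rw0 ru0 rR0
  have hu : pmul (φ : K →+* K) (pact (φ : K →+* K) (Units.mk0 r h0) (1, c + 1))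
      (pact (φ : K →+* K) (Units.mk0 (1 + r) hs)⁻¹⁻¹ (1, c)) = (1, c + (c * r + (1 + c) * φ r)) := by
    simp only [pact, pmul, inv_inv, Units.val_mk0, RingEquiv.coe_toRingHom, Prod.mk.injEq, map_one_add, mul_one]
    refine ⟨?_, ?_⟩
    · linear_combination r * CharTwo.two_eq_zero (R := K)
    · linear_combination (φ r * r * c + φ r * r) * CharTwo.two_eq_zero (R := K)
  rw [hu] at rr
  refine ⟨r3, _, _, _, h30, hr3', rr, ?_, ?_, ?_, ?_⟩
  · simp only [pact, pmul, inv_inv, Units.val_inv_eq_inv_val, Units.val_mk0, Units.val_mul, Units.val_one]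
    field_simp
  · simp only [inv_inv, mul_inv_rev, inv_one, one_mul, mul_one, Units.val_mul, Units.val_inv_eq_inv_val, Units.val_mk0]
    field_simp
  · simp only [pact, pmul, pinv, inv_inv, Units.val_inv_eq_inv_val, Units.val_mk0, Units.val_mul, Units.val_one,
      mul_inv_rev, CharTwo.neg_eq]
    field_simp
    ring
  · simp [pact, pmul]

theorem L_ne (hK : OddDeg K n) (hb : IsBase F c) {r : K} (h0 : r ≠ 0) (h1 : r ≠ 1) :
    c * r + (1 + c) * φ r ≠ 0 := by
  intro hL
  obtain ⟨r3, f, g, h, -, hr3, rr, hf, -, -, -⟩ := rel_w hK hb h0 h1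
  rw [hL, add_zero] at rr
  have e := congrArg Prod.fst (F.rel_unique rr (rel_v hb)).1
  rw [hf, div_eq_zero_iff, CharTwo.add_eq_zero] at e
  rcases e with e | e
  · rw [← e, map_one_add] at hr3
    have : φ r * r * (φ r * r) = 0 := by linear_combination -hr3
    simp [h0] at this
  · exact pow_ne_zero 2 h0 e

theorem L_bijective (hK : OddDeg K n) (hb : IsBase F c) :
    Function.Bijective fun x => c * x + (1 + c) * φ x := by
  refine Finite.injective_iff_bijective.mp fun x y h => ?_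
  have h' : c * (x + y) + (1 + c) * φ (x + y) = 0 := by
    change c * x + (1 + c) * φ x = c * y + (1 + c) * φ y at h
    rw [map_add]
    linear_combination h + (c * y + (1 + c) * φ y) * CharTwo.two_eq_zero (R := K)
  refine CharTwo.add_eq_zero.mp ?_
  by_contra h0
  refine L_ne hK hb h0 (fun h1 => ?_) h'
  rw [h1, map_one, mul_one, mul_one, add_comm 1 c, ← add_assoc, CharTwo.add_self_eq_zero, zero_add] at h'
  exact one_ne_zero h'

/-- Two ways of computing one relation. -/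
theorem step (hK : OddDeg K n) (hb : IsBase F c) {β : K} (h0 : β ≠ 0) (h1 : β ≠ 1) :
    ∃ r ρ : K, c * r + (1 + c) * φ r = φ β * β ∧
      (1 + β) * (1 + φ β) * (c * ρ + (1 + c) * φ ρ) = c * β + (1 + c) * φ β ∧
      1 + r + φ r = (1 + β) * (1 + φ β) * (1 + ρ + φ ρ) ∧ ρ * (1 + β) * (β + r) = β ^ 2 := by
  have hB := one_add_ne h1
  have hp : φ β ≠ 0 := by simpa using h0
  have hB' : 1 + φ β ≠ 0 := one_add_map_ne h1
  obtain ⟨r, hr⟩ := (L_bijective hK hb).2 (φ β * β)
  obtain ⟨ρ, hρ⟩ := (L_bijective hK hb).2 ((c * β + (1 + c) * φ β) / ((1 + β) * (1 + φ β)))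
  simp only at hr hρ
  have hρ' : (1 + β) * (1 + φ β) * (c * ρ + (1 + c) * φ ρ) = c * β + (1 + c) * φ β := by
    rw [hρ, mul_div_cancel₀ _ (mul_ne_zero hB hB')]
  have hr0 : r ≠ 0 := fun e => by simp [e, h0] at hr
  have hr1 : r ≠ 1 := fun e => by
    rw [e, map_one, mul_one, mul_one, add_comm 1 c, ← add_assoc, CharTwo.add_self_eq_zero, zero_add] at hr
    exact h1 (hK.norm_inj φ (a := β) (b := 1) (by rw [← hr, map_one, mul_one]))
  have hρ0 : ρ ≠ 0 := fun e => by
    simp only [e, map_zero, mul_zero, add_zero] at hρ'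
    exact L_ne hK hb h0 h1 hρ'.symm
  obtain ⟨r3, fr, gr, hrU, hr30, hr3, relr, hfr, hhr, hgr, -⟩ := rel_w hK hb hr0 hr1
  rw [hr] at relr
  have rwβ := F.rel_scale (rel_v hb) (Units.mk0 β h0)
  have rRβ := F.rel_scale relr (Units.mk0 β h0)⁻¹
  have hR : pact (φ : K →+* K) (Units.mk0 β h0)⁻¹ (1, c + φ β * β) =
      pmul (φ : K →+* K) (pact (φ : K →+* K) (Units.mk0 β h0)⁻¹ (1, c)) (0, 1) := by
    simp only [pact, pmul, mul_zero, mul_one, add_zero, Prod.mk.injEq, true_and, Units.val_inv_eq_inv_val,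
      Units.val_mk0, RingEquiv.coe_toRingHom, map_inv₀]
    field_simp
  rw [hR] at rRβ
  have ru := F.rel_eq rwβ hb rRβ
  have hu : pmul (φ : K →+* K) (pact (φ : K →+* K) (Units.mk0 β h0) (1, c)) (1, c) =
      pact (φ : K →+* K) (Units.mk0 (1 + β) hB) (1, c + (c * ρ + (1 + c) * φ ρ)) := by
    simp only [pact, pmul, Units.val_mk0, RingEquiv.coe_toRingHom, Prod.mk.injEq, map_one_add, mul_one]
    refine ⟨add_comm _ _, ?_⟩
    have h2 : (2 : K) = 0 := CharTwo.two_eq_zero
    linear_combination -hρ' - (c * β + c * φ β) * h2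
  rw [hu] at ru
  have sub1 : ∀ {t : K}, r3 / (r * (1 + r)) = t → r3 = t * (r * (1 + r)) :=
    fun h => (div_eq_iff (mul_ne_zero hr0 (one_add_ne hr1))).mp h
  have hrr := one_add_ne hr1
  have hφr : φ r ≠ 0 := by simpa using hr0
  by_cases hρ1 : ρ = 1
  · subst hρ1
    have r' := F.rel_scale (rel_v' hb) (Units.mk0 (1 + β) hB)
    rw [show c + (c * 1 + (1 + c) * φ 1) = c + 1 by
      rw [map_one, mul_one, mul_one, add_comm 1 c, ← add_assoc c c, CharTwo.add_self_eq_zero, zero_add]] at ru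
    obtain ⟨ef, eh, -⟩ := F.rel_unique ru r'
    have ef1 := congrArg Prod.fst ef
    have eh1 := congrArg Units.val eh
    simp only [pact, pmul, mul_zero, zero_add, mul_one, one_mul, inv_one, inv_inv, mul_inv_rev, Units.val_mul,
      Units.val_inv_eq_inv_val, Units.val_mk0, Units.val_one, hfr, hhr] at ef1 eh1
    have hτ : r3 / (r * (1 + r)) = 1 / (1 + β) := hK.sq_inj (by
      field_simp at eh1 ⊢
      linear_combination eh1)
    have e3 := sub1 hτ
    have hlin : r * (1 + β) = β := by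
      field_simp at ef1 e3
      have h2 : (2 : K) = 0 := CharTwo.two_eq_zero
      refine mul_left_cancel₀ hr0 ?_
      grind
    refine ⟨r, 1, hr, hρ', ?_, by linear_combination hlin + β * CharTwo.two_eq_zero (R := K)⟩
    rw [map_one]
    have hp3 : φ r3 = φ r * φ (1 + r) / φ (1 + β) := by
      rw [e3, map_mul, map_div₀, map_one, map_mul, one_div, inv_mul_eq_div]
    rw [hp3, map_one_add, map_one_add] at hr3
    have hrs : 1 + φ r ≠ 0 := one_add_map_ne hr1
    field_simp at hr3 e3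
    grind
  · obtain ⟨ρ3, fρ, gρ, hρU, hρ30, hρ3, relρ, hfρ, hhρ, hgρ, -⟩ := rel_w hK hb hρ0 hρ1
    have hρρ := one_add_ne hρ1
    have r' := F.rel_scale relρ (Units.mk0 (1 + β) hB)
    obtain ⟨ef, eh, eg⟩ := F.rel_unique ru r'
    have ef1 := congrArg Prod.fst ef
    have eh1 := congrArg Units.val eh
    have eg1 := congrArg Prod.fst eg
    simp only [pact, pmul, pinv, mul_zero, zero_add, mul_one, one_mul, inv_one, inv_inv, mul_inv_rev,
      CharTwo.neg_eq, Units.val_mul, Units.val_inv_eq_inv_val, Units.val_mk0, Units.val_one,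
      hfr, hhr, hgr, hfρ, hhρ, hgρ] at ef1 eh1 eg1
    obtain ⟨t, ht⟩ : ∃ t, t = r3 / (r * (1 + r)) := ⟨_, rfl⟩
    have e3 := sub1 ht.symm
    have hτ : t = ρ3 / (ρ * (1 + ρ) * (1 + β)) := hK.sq_inj (by
      rw [ht]
      field_simp at eh1 ⊢
      linear_combination eh1)
    have e4 : ρ3 = t * (ρ * (1 + ρ) * (1 + β)) :=
      ((eq_div_iff (mul_ne_zero (mul_ne_zero hρ0 hρρ) hB)).mp hτ).symm
    subst e3 e4
    have hφρ : φ ρ ≠ 0 := by simpa using hρ0
    have hφρ1 : 1 + φ ρ ≠ 0 := one_add_map_ne hρ1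
    have hφr1 : 1 + φ r ≠ 0 := one_add_map_ne hr1
    have hS1 : φ t * t * (1 + r + φ r) = 1 := by
      simp only [map_mul, map_one_add] at hr3
      refine mul_left_cancel₀ (mul_ne_zero (mul_ne_zero hφr hr0) (mul_ne_zero hφr1 hrr)) ?_
      linear_combination hr3
    have hS2 : φ t * t * ((1 + β) * (1 + φ β) * (1 + ρ + φ ρ)) = 1 := by
      simp only [map_mul, map_one_add] at hρ3
      refine mul_left_cancel₀ (mul_ne_zero (mul_ne_zero hφρ hρ0) (mul_ne_zero hφρ1 hρρ)) ?_
      linear_combination hρ3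
    refine ⟨r, ρ, hr, hρ', ?_, linear_step (t := t) ?_ ?_⟩
    · exact mul_left_cancel₀ (left_ne_zero_of_mul_eq_one hS1) (hS1.trans hS2.symm)
    · field_simp at ef1
      linear_combination ef1
    · field_simp at eg1
      refine mul_left_cancel₀ (mul_ne_zero hrr hρρ) ?_
      linear_combination eg1

end Cfsg.Agent.SzRecog
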